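import Mathlib

/-! The weighted Gaussian map on projective space is surjective. -/

set_option autoImplicit false

universe u

noncomputable section

open MvPolynomial

namespace Groth.GaussMap

variable {k : Type u} [Field k] [CharZero k] {m : ℕ}

theorem exists_le_degree (D : Fin m →₀ ℕ) :
    ∀ r ≤ D.degree, ∃ s ≤ D, s.degree = r := by
  intro r
  induction r with
  | zero => exact fun _ => ⟨0, bot_le, map_zero _⟩
  | succ r ih =>
    intro hr
    obtain ⟨s, hs, hd⟩ := ih (by omega)
    obtain ⟨i, hi⟩ : ∃ i, s i < D i := by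
      by_contra hc
      push Not at hc
      have : D.degree ≤ s.degree := Finsupp.degree_mono hc
      omega
    refine ⟨s + Finsupp.single i 1, fun j => ?_, by simp [map_add, hd]⟩
    rcases eq_or_ne i j with rfl | hne
    · simp only [Finsupp.add_apply, Finsupp.single_eq_same]
      omega
    · simp only [Finsupp.add_apply, Finsupp.single_eq_of_ne (Ne.symm hne), add_zero]
      exact hs j

/-- The Koszul tuple of two indices. -/
def L (i j : Fin m) : MvPolynomial (Fin m) k →ₗ[k] (Fin m → MvPolynomial (Fin m) k) :=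
  LinearMap.pi fun l => (if l = j then LinearMap.mulLeft k (X i) else 0) -
    (if l = i then LinearMap.mulLeft k (X j) else 0)

theorem L_apply (i j : Fin m) (h : MvPolynomial (Fin m) k) (l : Fin m) :
    L i j h l = (if l = j then X i * h else 0) - (if l = i then X j * h else 0) := by
  simp [L]; split_ifs <;> simp

variable (a b e : ℕ)

/-- The span of the image of the Gaussian map. -/
def W : Submodule k (Fin m → MvPolynomial (Fin m) k) :=
  Submodule.span k
    {g | ∃ σ τ : MvPolynomial (Fin m) k, σ.IsHomogeneous (a * e) ∧ τ.IsHomogeneous (b * e) ∧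
      g = fun i => (b : k) • (τ * pderiv i σ) - (a : k) • (σ * pderiv i τ)}

theorem L_monomial_mem (he : 0 < e) (ha : 0 < a) (hb : 0 < b) (i j : Fin m) (D : Fin m →₀ ℕ)
    (hD : D.degree + 2 = (a + b) * e) : L i j (monomial D (1 : k)) ∈ W (k := k) a b e := by
  classical
  have hae : 1 ≤ a * e := Nat.mul_pos ha he
  have hbe : 1 ≤ b * e := Nat.mul_pos hb he
  have hsum : (a + b) * e = a * e + b * e := add_mul a b e
  obtain ⟨s, hs, hdeg⟩ := exists_le_degree D (a * e - 1) (by omega)
  obtain ⟨t, rfl⟩ : ∃ t, D = s + t := ⟨D - s, (add_tsub_cancel_of_le hs).symm⟩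
  rw [map_add, hdeg] at hD
  let P : MvPolynomial (Fin m) k := monomial s 1
  let Q : MvPolynomial (Fin m) k := monomial t 1
  have hP : P.IsHomogeneous (a * e - 1) := isHomogeneous_monomial 1 hdeg
  have hQ : Q.IsHomogeneous t.degree := isHomogeneous_monomial 1 rfl
  have hσ : ∀ i : Fin m, (X i * P).IsHomogeneous (a * e) := fun i => by
    have := (isHomogeneous_X k i).mul hP
    rwa [show 1 + (a * e - 1) = a * e by omega] at this
  have hτ : ∀ i : Fin m, (X i * Q).IsHomogeneous (b * e) := fun i => by
    have := (isHomogeneous_X k i).mul hQ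
    rwa [show 1 + t.degree = b * e by omega] at this
  have key : ∀ i' j' : Fin m, (fun l => (b : k) • ((X j' * Q) * pderiv l (X i' * P)) -
      (a : k) • ((X i' * P) * pderiv l (X j' * Q))) ∈ W (k := k) a b e := fun i' j' =>
    Submodule.subset_span ⟨_, _, hσ i', hτ j', rfl⟩
  have hne : ((a : k) + b) ≠ 0 := by exact_mod_cast (by omega : a + b ≠ 0)
  have hPQ : (monomial (s + t) (1 : k)) = P * Q := by simp [P, Q, monomial_mul]
  have := Submodule.smul_mem _ ((a : k) + b)⁻¹ (Submodule.sub_mem _ (key j i) (key i j))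
  convert this using 1
  funext l
  rw [L_apply, Pi.smul_apply, eq_inv_smul_iff₀ hne, Pi.sub_apply, hPQ]
  simp only [pderiv_mul, pderiv_X, Pi.single_apply, eq_comm (a := l), Algebra.smul_def,
    MvPolynomial.algebraMap_eq, map_add, map_natCast]
  split_ifs <;> ring

theorem L_mem (he : 0 < e) (ha : 0 < a) (hb : 0 < b) (i j : Fin m) (h : MvPolynomial (Fin m) k)
    (hh : h.IsHomogeneous ((a + b) * e - 2)) : L i j h ∈ W (k := k) a b e := by
  classical
  rw [h.as_sum, map_sum]
  refine Submodule.sum_mem _ fun D hD => ?_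
  rw [show monomial D (coeff D h) = coeff D h • monomial D (1 : k) by simp [smul_monomial], map_smul]
  refine Submodule.smul_mem _ _ (L_monomial_mem a b e he ha hb i j D ?_)
  have hd : Finsupp.weight (1 : Fin m → ℕ) D = (a + b) * e - 2 := hh (mem_support_iff.1 hD)
  rw [Finsupp.degree_eq_weight_one]
  have : 2 ≤ (a + b) * e := by nlinarith
  change Finsupp.weight (1 : Fin m → ℕ) D + 2 = _
  omega

theorem mem_W (he : 0 < e) (ha : 0 < a) (hb : 0 < b) (f : Fin m → MvPolynomial (Fin m) k)
    (hf : ∀ i, (f i).IsHomogeneous ((a + b) * e - 1)) (hEuler : ∑ i, X i * f i = 0) :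
    f ∈ W (k := k) a b e := by
  classical
  let h : Fin m → Fin m → MvPolynomial (Fin m) k := fun i j => pderiv i (f j) - pderiv j (f i)
  have hd2 : 2 ≤ (a + b) * e := by nlinarith
  have hh : ∀ i j, (h i j).IsHomogeneous ((a + b) * e - 2) := fun i j => by
    have h1 := (hf j).pderiv (i := i)
    have h2 := (hf i).pderiv (i := j)
    rw [show (a + b) * e - 1 - 1 = (a + b) * e - 2 by omega] at h1 h2
    exact h1.sub h2
  have hsum : ∑ i, ∑ j, L i j (h i j) = ((2 : k) * (((a + b) * e : ℕ) : k)) • f := by
    funext l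
    have hl : ∑ i, X i * pderiv l (f i) = -f l := by
      have := congrArg (pderiv l) hEuler
      simp only [map_sum, map_zero, pderiv_mul, pderiv_X, Pi.single_apply, ite_mul, one_mul, zero_mul,
        Finset.sum_add_distrib, Finset.sum_ite_eq, Finset.sum_ite_eq', Finset.mem_univ, if_true] at this
      exact eq_neg_of_add_eq_zero_right this
    have hl' : ∑ i, X i * pderiv i (f l) = ((((a + b) * e - 1 : ℕ)) : MvPolynomial (Fin m) k) * f l := by
      rw [(hf l).sum_X_mul_pderiv, nsmul_eq_mul]
    simp only [Finset.sum_apply, L_apply, Finset.sum_sub_distrib, Pi.smul_apply, Finset.sum_ite_eq,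
      Finset.mem_univ, if_true]
    rw [Finset.sum_comm (f := fun i j => if l = i then _ else _)]
    simp only [Finset.sum_ite_eq, Finset.mem_univ, if_true, h, mul_sub, Finset.sum_sub_distrib, hl, hl']
    rw [Algebra.smul_def, MvPolynomial.algebraMap_eq, map_mul, map_natCast, map_ofNat,
      Nat.cast_sub (by omega : 1 ≤ (a + b) * e)]
    ring
  have hc : ((2 : k) * (((a + b) * e : ℕ) : k)) ≠ 0 :=
    mul_ne_zero two_ne_zero (Nat.cast_ne_zero.2 (by omega))
  have hmem : ∑ i, ∑ j, L i j (h i j) ∈ W (k := k) a b e :=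
    Submodule.sum_mem _ fun i _ => Submodule.sum_mem _ fun j _ => L_mem a b e he ha hb i j _ (hh i j)
  have := Submodule.smul_mem (W (k := k) a b e) ((2 : k) * (((a + b) * e : ℕ) : k))⁻¹ hmem
  rwa [hsum, inv_smul_smul₀ hc] at this

end Groth.GaussMap
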